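import Groth.Agent.CommAlgDim.Depth
import Mathlib.Topology.Connected.Basic
import Mathlib.RingTheory.Spectrum.Prime.Topology

/-!
# Hartshorne's connectedness in depth at least two
-/

set_option autoImplicit false
set_option linter.style.haveILetI false
universe u

open IsLocalRing CommAlgDim

namespace HartConnLib

variable {R : Type u} [CommRing R] [IsLocalRing R] [IsNoetherianRing R]

theorem no_split_of_mul_eq_bot (h : (2 : ℕ∞) ≤ LocCoh.depth R R) {I J : Ideal R} (hIJ : I * J = ⊥)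
    (hm : maximalIdeal R ≤ (I ⊔ J).radical) (hI : I ≠ ⊤) (hJ : J ≠ ⊤) : I = ⊥ ∨ J = ⊥ := by
  have h2 : HasSeqIn (maximalIdeal R) R 2 := (le_depth_iff 2).1 (by exact_mod_cast h)
  have hass : ∀ (M : Type u) [AddCommGroup M] [Module R M] [Module.Finite R M], HasSeqIn (maximalIdeal R) M 1 →
      ∀ p ∈ associatedPrimes R M, ¬ I ⊔ J ≤ p := fun M _ _ _ hM p hp hle =>
    (hasSeqIn_one_iff _).1 hM p hp (hm.trans (hp.1.radical_le_iff.2 hle))
  have hIJm : I ⊔ J ≤ maximalIdeal R := sup_le (le_maximalIdeal hI) (le_maximalIdeal hJ)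
  obtain ⟨r, hr, hrreg⟩ := exists_isSMulRegular_mem (hass R (h2.mono one_le_two))
  obtain ⟨s, hs, hsreg⟩ := exists_isSMulRegular_mem
    (hass (QuotSMulTop r R) (h2.quotSMulTop (hIJm hr) hrreg))
  obtain ⟨i₁, hi₁, j₁, hj₁, rfl⟩ := Submodule.mem_sup.1 hr
  obtain ⟨i₂, hi₂, j₂, hj₂, rfl⟩ := Submodule.mem_sup.1 hs
  have h0 : ∀ i ∈ I, ∀ j ∈ J, i * j = 0 := fun i hi j hj => by
    have := Ideal.mul_mem_mul hi hj
    rwa [hIJ, Submodule.mem_bot] at this
  have hc : (Submodule.Quotient.mk i₁ : QuotSMulTop (i₁ + j₁) R) = 0 := by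
    refine hsreg.right_eq_zero_of_smul ?_
    rw [← Submodule.Quotient.mk_smul, Submodule.Quotient.mk_eq_zero]
    refine (Submodule.mem_smul_pointwise_iff_exists _ _ _).2 ⟨i₂, Submodule.mem_top, ?_⟩
    simp only [smul_eq_mul, add_mul]
    rw [mul_comm j₁ i₂, h0 i₂ hi₂ j₁ hj₁, mul_comm j₂ i₁, h0 i₁ hi₁ j₂ hj₂]
    ring
  obtain ⟨c, -, hc⟩ := (Submodule.mem_smul_pointwise_iff_exists _ _ _).1 ((Submodule.Quotient.mk_eq_zero _).1 hc)
  rw [smul_eq_mul] at hc
  by_cases hu : IsUnit c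
  · refine Or.inr (eq_bot_iff.2 fun y hy => ?_)
    have hmem : i₁ + j₁ ∈ I := (Ideal.mul_unit_mem_iff_mem I hu).1 (hc.symm ▸ hi₁)
    exact (Submodule.mem_bot R).2 (hrreg.right_eq_zero_of_smul (by rw [smul_eq_mul]; exact h0 _ hmem y hy))
  · refine Or.inl (eq_bot_iff.2 fun y hy => ?_)
    have hu' : IsUnit (1 - c) := IsLocalRing.isUnit_one_sub_self_of_mem_nonunits c hu
    have hmem : i₁ + j₁ ∈ J := (Ideal.mul_unit_mem_iff_mem J hu').1 (by
      rw [mul_sub, mul_one, hc, add_sub_cancel_left]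
      exact hj₁)
    exact (Submodule.mem_bot R).2 (hrreg.right_eq_zero_of_smul (by
      rw [smul_eq_mul, mul_comm]; exact h0 y hy _ hmem))

/-- No splitting of the punctured spectrum. -/
theorem no_split (h : (2 : ℕ∞) ≤ LocCoh.depth R R) {I J : Ideal R} (hIJ : I * J ≤ nilradical R)
    (hm : maximalIdeal R ≤ (I ⊔ J).radical) : maximalIdeal R ≤ I.radical ∨ maximalIdeal R ≤ J.radical := by
  rcases eq_or_ne I ⊤ with rfl | hI
  · exact Or.inl (by rw [Ideal.radical_top]; exact le_top)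
  rcases eq_or_ne J ⊤ with rfl | hJ
  · exact Or.inr (by rw [Ideal.radical_top]; exact le_top)
  obtain ⟨n, hn⟩ := Ideal.exists_pow_le_of_le_radical_of_fg (J := (⊥ : Ideal R)) hIJ (IsNoetherian.noetherian _)
  have hrad : ∀ K : Ideal R, K ≤ (K ^ (n + 1)).radical := fun K x hx => ⟨n + 1, Ideal.pow_mem_pow hx _⟩
  have hm' : maximalIdeal R ≤ (I ^ (n + 1) ⊔ J ^ (n + 1)).radical := hm.trans (Ideal.radical_le_radical_iff.2
    (sup_le ((hrad I).trans (Ideal.radical_mono le_sup_left)) ((hrad J).trans (Ideal.radical_mono le_sup_right))))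
  have hne : ∀ K : Ideal R, K ≠ ⊤ → K ^ (n + 1) ≠ ⊤ := fun K hK he =>
    hK (top_le_iff.1 (he ▸ Ideal.pow_le_self n.succ_ne_zero))
  rcases no_split_of_mul_eq_bot h (by
    rw [← mul_pow]; exact eq_bot_iff.2 ((Ideal.pow_le_pow_right n.le_succ).trans hn)) hm' (hne I hI) (hne J hJ)
    with h0 | h0
  · right
    refine hm.trans (Ideal.radical_le_radical_iff.2 (sup_le (fun x hx => ⟨n + 1, ?_⟩) Ideal.le_radical))
    have := Ideal.pow_mem_pow hx (n + 1)
    rw [h0, Submodule.mem_bot] at this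
    rw [this]
    exact J.zero_mem
  · left
    refine hm.trans (Ideal.radical_le_radical_iff.2 (sup_le Ideal.le_radical fun x hx => ⟨n + 1, ?_⟩))
    have := Ideal.pow_mem_pow hx (n + 1)
    rw [h0, Submodule.mem_bot] at this
    rw [this]
    exact I.zero_mem

theorem exists_ne_maximalIdeal (h : (1 : ℕ∞) ≤ LocCoh.depth R R) :
    ∃ p : PrimeSpectrum R, p.asIdeal ≠ maximalIdeal R := by
  obtain ⟨p, hp⟩ := associatedPrimes.nonempty R R
  refine ⟨⟨p, hp.1⟩, fun he : p = maximalIdeal R => ?_⟩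
  exact (hasSeqIn_one_iff _).1 ((le_depth_iff 1).1 (by exact_mod_cast h)) p hp he.ge

/-- The punctured spectrum is connected. -/
theorem isConnected_punctured (h : (2 : ℕ∞) ≤ LocCoh.depth R R) :
    IsConnected {x : PrimeSpectrum R | x.asIdeal ≠ maximalIdeal R} := by
  refine ⟨exists_ne_maximalIdeal (le_trans one_le_two h), isPreconnected_closed_iff.2 fun t t' ht ht' hcov hne hne' => ?_⟩
  obtain ⟨I, rfl⟩ := (PrimeSpectrum.isClosed_iff_zeroLocus_ideal t).1 ht
  obtain ⟨J, rfl⟩ := (PrimeSpectrum.isClosed_iff_zeroLocus_ideal t').1 ht'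
  obtain ⟨x, hxU, hxI⟩ := hne
  obtain ⟨y, hyU, hyJ⟩ := hne'
  have hIJ : I * J ≤ nilradical R := by
    rw [nilradical_eq_sInf]
    refine le_sInf fun p hp => ?_
    by_cases hpm : p = maximalIdeal R
    · rw [hpm]
      exact Ideal.mul_le_right.trans (le_trans hyJ (le_maximalIdeal y.isPrime.ne_top))
    · rcases hcov (show (⟨p, hp⟩ : PrimeSpectrum R) ∈ {x : PrimeSpectrum R | x.asIdeal ≠ maximalIdeal R} from hpm)
        with h' | h'
      · exact Ideal.mul_le_left.trans h'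
      · exact Ideal.mul_le_right.trans h'
  by_contra hempty
  have hsup : maximalIdeal R ≤ (I ⊔ J).radical := by
    rw [Ideal.radical_eq_sInf]
    refine le_sInf fun p ⟨hle, hp⟩ => ?_
    by_contra hpm
    refine hempty ⟨⟨p, hp⟩, fun he : p = maximalIdeal R => hpm he.ge, ?_, ?_⟩
    · exact (le_sup_left.trans hle : I ≤ p)
    · exact (le_sup_right.trans hle : J ≤ p)
  rcases no_split h hIJ hsup with h' | h'
  · exact hxU ((le_antisymm (le_maximalIdeal x.isPrime.ne_top) (h'.trans (x.isPrime.radical_le_iff.2 hxI))))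
  · exact hyU ((le_antisymm (le_maximalIdeal y.isPrime.ne_top) (h'.trans (y.isPrime.radical_le_iff.2 hyJ))))

end HartConnLib
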